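import Cfsg.Agent.H299.UF.E6Num
import Cfsg.Agent.H945.UF.PairU
import Cfsg.Agent.H77.E4Cls
import Cfsg.Agent.H371.P4.Tor
import Cfsg.Agent.H366.IsoE6

/-!
# S3461, the row `E₆(v)` (helper299, task 2675 of helper945)
-/

set_option autoImplicit false
set_option linter.unusedSectionVars false

namespace Cfsg.Agent.H299.UF

open CoxeterSystem Subgroup Cfsg Cfsg.Lie Cfsg.Lie.ChevalleyDatum
open Cfsg.Agent.ChevalleyStructure.CoxeterGeomTypes Cfsg.Agent.Nodes.RGDChev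
open Cfsg.Agent.BpExc.RowsUntw Cfsg.Agent.BpExc.FamInst Cfsg.Agent.BpExc.FamExt
open Cfsg.Agent.H77.E4Poly Cfsg.Agent.H77.E4Tor Cfsg.Agent.H77.E4Cls Cfsg.Agent.H378.ExcAdj Cfsg.Agent.H378.ExcNear
open Cfsg.Agent.H378 Cfsg.Agent.H378.SmallTor Cfsg.Agent.H378.AdjTab Cfsg.Agent.H378.CycTab
open Cfsg.Agent.H129.WData Cfsg.Agent.H493.PGTorus
open Cfsg.Agent.H945.UF

universe u

/-- four coprime element orders prime to `M` -/
theorem quad {p q : ℕ} {S : Type*} [Group S] (h : CandU p q S) {N₁ N₂ N₃ N₄ : ℕ} (h1 : ∃ x : S, orderOf x = N₁)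
    (h2 : ∃ x : S, orderOf x = N₂) (h3 : ∃ x : S, orderOf x = N₃) (h4 : ∃ x : S, orderOf x = N₄)
    (c1 : Nat.Coprime N₁ (mm q)) (c2 : Nat.Coprime N₂ (mm q)) (c3 : Nat.Coprime N₃ (mm q)) (c4 : Nat.Coprime N₄ (mm q))
    (c12 : Nat.Coprime N₁ N₂) (c13 : Nat.Coprime N₁ N₃) (c14 : Nat.Coprime N₁ N₄) (c23 : Nat.Coprime N₂ N₃)
    (c24 : Nat.Coprime N₂ N₄) (c34 : Nat.Coprime N₃ N₄) : N₁ * N₂ * N₃ * N₄ < q ^ 5 := by
  have hq := h.q_ge
  have h5 : N₁ * N₂ * N₃ * N₄ ∣ q * (q ^ 2 - 1) * (q ^ 2 - q + 1) :=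
    Nat.Coprime.mul_dvd_of_dvd_of_dvd (Nat.Coprime.mul_left (Nat.Coprime.mul_left c14 c24) c34)
      (Nat.Coprime.mul_dvd_of_dvd_of_dvd (Nat.Coprime.mul_left c13 c23)
        (Nat.Coprime.mul_dvd_of_dvd_of_dvd c12 (h.free_dvd h1 c1) (h.free_dvd h2 c2)) (h.free_dvd h3 c3))
      (h.free_dvd h4 c4)
  have h8 : 7 * q ≤ q ^ 2 := by rw [sq]; exact Nat.mul_le_mul_right _ hq
  have h6 : 0 < q * (q ^ 2 - 1) * (q ^ 2 - q + 1) := by
    have : 0 < q ^ 2 - 1 := by omega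
    positivity
  refine (Nat.le_of_dvd h6 h5).trans_lt ?_
  calc q * (q ^ 2 - 1) * (q ^ 2 - q + 1) ≤ q * (q ^ 2 - 1) * q ^ 2 := Nat.mul_le_mul_left _ (by omega)
    _ < q * q ^ 2 * q ^ 2 := by
      apply Nat.mul_lt_mul_of_pos_right _ (by positivity)
      exact Nat.mul_lt_mul_of_pos_left (by omega) (by omega)
    _ = q ^ 5 := by ring

/-- the contradiction by size -/
theorem size {p q : ℕ} {S : Type*} [Group S] (h : CandU p q S) {P Φ : ℕ} (hP : P < q ^ 5) (hΦ : mm q ≤ Φ)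
    (hn : 32 * Φ ^ 5 ≤ P ^ 2) : False := by
  have h1 := h.two_mm
  have h2 : (q ^ 2) ^ 5 ≤ (2 * Φ) ^ 5 := Nat.pow_le_pow_left (by omega) 5
  have h3 : P ^ 2 < (q ^ 5) ^ 2 := Nat.pow_lt_pow_left hP two_ne_zero
  have h4 : (q ^ 5) ^ 2 = (q ^ 2) ^ 5 := by ring
  have h5 : (2 * Φ) ^ 5 = 32 * Φ ^ 5 := by ring
  omega

/-- the class of the primes of `M` -/
theorem exists_cls {p q : ℕ} {F : Type u} [Field F] [Fintype F] (h : CandU p q ↥(Lie.chevE6.group F)) :
    ∃ m ∈ ([8, 9, 12] : List ℕ), AllOd (Nat.card F) (mm q) m ∧ mm q ∣ Pn m (Nat.card F) := by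
  have hc := Cfsg.Agent.S1063.result (F := F) rfl
  rw [← Nat.card_eq_fintype_card] at hc
  have hq1 : 1 < Nat.card F := Finite.one_lt_card
  obtain ⟨x, hx⟩ := h.elt'
  obtain ⟨m, hm, hall⟩ := allOd_untw e6T (x := x) (by rw [hx]; have := h.mm_ge; omega) [8, 9, 12] (by decide)
    (fun r hr hrd => by
      rw [hx] at hrd
      have h1 := adj_E6 F hr (h.dvd_card hrd)
      rcases h1 with h1 | h1 | h1
      · exact absurd h1 (h.prime_facts hr hrd).1
      · exact absurd h1 (h.not_adj hr hrd)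
      · simpa [od] using h1)
  rw [hx] at hall
  refine ⟨m, hm, hall, ?_⟩
  have hB : mm q ∣ Nat.card ↥(Lie.chevE6.group F) := by rw [← hx]; exact orderOf_dvd_natCard x
  have hB := hB.mul_left (Nat.gcd 3 (Nat.card F - 1))
  rw [hc] at hB
  have hB' := Int.natCast_dvd_natCast.2 hB
  simp only [Nat.cast_mul, Nat.cast_pow, cast_pred (show 1 ≤ Nat.card F by omega)] at hB'
  simp only [List.mem_cons, List.not_mem_nil, or_false] at hm
  rcases hm with rfl | rfl | rfl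
  · exact fin_dvd hall 8 36 [2, 5, 6, 9, 12] (by decide) (by decide) (by omega) (by decide) hB'
      (by simp only [List.map_cons, List.map_nil, List.prod_cons, List.prod_nil]; ring)
  · exact fin_dvd hall 9 36 [2, 5, 6, 8, 12] (by decide) (by decide) (by omega) (by decide) hB'
      (by simp only [List.map_cons, List.map_nil, List.prod_cons, List.prod_nil]; ring)
  · exact fin_dvd hall 12 36 [2, 5, 6, 8, 9] (by decide) (by decide) (by omega) (by decide) hB'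
      (by simp only [List.map_cons, List.map_nil, List.prod_cons, List.prod_nil]; ring)

theorem cop_three' {M : ℕ} (h : (M : ZMod 3) ≠ 0) : Nat.Coprime M 3 := by
  rw [Nat.coprime_comm, Nat.Prime.coprime_iff_not_dvd Nat.prime_three]
  intro h1
  exact h ((ZMod.natCast_eq_zero_iff M 3).2 h1)

section elements

variable {F : Type u} [Field F] [Fintype F] {v : ℕ} (hvF : Nat.card F = v) (A : Vals v)

include hvF

theorem ex5 : ∃ x : ↥(Lie.chevE6.group F), orderOf x = A.a5 := by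
  subst hvF
  refine H371.P4.exists_orderOf_d e6T three_ne_zero inv_E6 AdjE6.hA AdjE6.row5.1 AdjE6.row5.2.2 (F := F) (N := A.a5)
    (by rw [pv5, A.h5]) (by rw [pv5]; positivity) (cop_three' (by
      have := congrArg (Int.cast : ℤ → ZMod 3) A.h5
      push_cast at this
      rw [this]
      exact (by decide : ∀ x : ZMod 3, x ^ 4 + x ^ 3 + x ^ 2 + x + 1 ≠ 0) _))

theorem ex8 : ∃ x : ↥(Lie.chevE6.group F), orderOf x = A.a8 := by
  subst hvF
  refine H371.P4.exists_orderOf_d e6T three_ne_zero inv_E6 AdjE6.hA AdjE6.chain8 AdjE6.tor8_8 (F := F) (N := A.a8)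
    (by rw [pv8, A.h8]) (by rw [pv8]; positivity) (cop_three' (by
      have := congrArg (Int.cast : ℤ → ZMod 3) A.h8
      push_cast at this
      rw [this]
      exact (by decide : ∀ x : ZMod 3, x ^ 4 + 1 ≠ 0) _))

theorem exC : ∃ x : ↥(Lie.chevE6.group F), orderOf x = A.m3 * A.a12 := by
  subst hvF
  obtain ⟨x, hx⟩ := Cfsg.Agent.H366.Iso.e6_orderC (F := F)
  have hq1 : 1 < Nat.card F := Finite.one_lt_card
  refine ⟨x, ?_⟩
  rw [hx, ← A.hd]
  have hd0 : 0 < A.d := by rw [A.hd]; exact Nat.gcd_pos_of_pos_left _ (by norm_num)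
  have h1 : Nat.card F ^ 2 + Nat.card F + 1 = A.d * A.m3 := by
    have := A.h3
    exact_mod_cast this.symm
  have h2 : Nat.card F ^ 4 - Nat.card F ^ 2 + 1 = A.a12 := by
    have h3 : Nat.card F ^ 2 ≤ Nat.card F ^ 4 := Nat.pow_le_pow_right (by omega) (by norm_num)
    have h4 := A.h12
    zify [h3]
    rw [h4]
  rw [h1, h2, mul_assoc, Nat.mul_div_cancel_left _ hd0]

theorem ex46 : ∃ x : ↥(Lie.chevE6.group F), orderOf x = A.m4 * A.a6 := by
  obtain ⟨x, hx⟩ := tor_E6 F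
  have hq1 : 1 < Nat.card F := Finite.one_lt_card
  rw [hvF] at hx hq1
  have h6 : v ^ 2 - v + 1 = A.a6 := by
    have h3 : v ≤ v ^ 2 := Nat.le_self_pow (by norm_num) _
    have h4 := A.h6
    zify [h3]
    rw [h4]
  have h4 : v ^ 4 - 1 = (v ^ 2 - 1) * (A.g * A.m4) := by
    have h5 : 1 ≤ v ^ 2 := Nat.one_le_pow _ _ (by omega)
    have h7 : 1 ≤ v ^ 4 := Nat.one_le_pow _ _ (by omega)
    zify [h5, h7]
    rw [A.h4]; ring
  rw [h6, h4] at hx
  -- `Φ₄ Φ₆` divides the order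
  have h8 : A.g * A.m4 * A.a6 ∣ orderOf x := by
    by_cases h3 : 3 ∣ v
    · have h9 : Nat.Coprime (A.g * A.m4 * A.a6) 3 := by
        rw [Nat.coprime_comm, Nat.Prime.coprime_iff_not_dvd Nat.prime_three]
        intro h10
        have h11 : ((A.g * A.m4 * A.a6 : ℕ) : ℤ) = ((v : ℤ) ^ 2 + 1) * ((v : ℤ) ^ 2 - v + 1) := by
          push_cast
          rw [A.h4, A.h6]
        have h12 : (3 : ℤ) ∣ ((v : ℤ) ^ 2 + 1) * ((v : ℤ) ^ 2 - v + 1) := by
          rw [← h11]; exact_mod_cast h10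
        have h13 : (3 : ℤ) ∣ v := by exact_mod_cast h3
        obtain ⟨k, hk⟩ := h13
        obtain ⟨j, hj⟩ := h12
        rw [hk] at hj
        have h14 : (1 : ℤ) = 3 * (j - (27 * k ^ 4 - 9 * k ^ 3 + 6 * k ^ 2 - k)) := by
          linear_combination hj
        omega
      have h15 : A.g * A.m4 * A.a6 ∣ orderOf x * 3 := by
        refine dvd_trans ⟨v ^ 2 - 1, ?_⟩ hx
        ring
      exact h9.dvd_of_dvd_mul_right h15
    · have h9 : 3 ∣ v ^ 2 - 1 := by
        have h10 : v % 3 = 1 ∨ v % 3 = 2 := by omega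
        have h11 : v ^ 2 % 3 = 1 := by rcases h10 with h10 | h10 <;> rw [Nat.pow_mod, h10]
        omega
      obtain ⟨k, hk⟩ := h9
      rw [hk] at hx
      have h10 : A.g * A.m4 * A.a6 * k * 3 ∣ orderOf x * 3 := by
        refine dvd_trans (dvd_of_eq ?_) hx
        ring
      exact (Dvd.intro _ rfl).trans (Nat.dvd_of_mul_dvd_mul_right (by norm_num) h10)
  have h9 : A.m4 * A.a6 ∣ orderOf x := by
    refine dvd_trans ⟨A.g, ?_⟩ h8
    ring
  obtain ⟨y, -, hy⟩ := H371.exists_orderOf_of_dvd (isOfFinOrder_of_finite x) h9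
  exact ⟨y, hy⟩

end elements

/-- coprimality with `M` -/
theorem cop_all {B v m N : ℕ} (hall : AllOd v B m) (hm : m ≠ 0) {k : ℕ} (hk : ¬ m ∣ k) {c : ℤ}
    (hN : (v : ℤ) ^ k - 1 = N * c) : Nat.Coprime N B := by
  rw [Nat.coprime_comm, ← Nat.isCoprime_iff_coprime]
  exact hall.cop_int hm hk ⟨c, hN⟩

theorem a12_pos {v : ℕ} (hv : 2 ≤ v) : 0 < (v : ℤ) ^ 4 - v ^ 2 + 1 := by
  have h1 : (2 : ℤ) ≤ v := by exact_mod_cast hv
  have h2 : (4 : ℤ) ≤ (v : ℤ) ^ 2 := by nlinarith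
  nlinarith

/-- **`E₆(v)`** -/
theorem row_E6 {F : Type*} [Field F] [Fintype F] {p q : ℕ} (_hpF : (p : F) ≠ 0)
    (h : CandU p q ↥(Lie.chevE6.group F)) : False := by
  obtain ⟨m, hm, hall, hdv⟩ := exists_cls h
  have hv : 2 ≤ Nat.card F := Finite.one_lt_card
  obtain ⟨v, hvF⟩ : ∃ v, Nat.card F = v := ⟨_, rfl⟩
  rw [hvF] at hall hdv hv
  obtain ⟨A⟩ := exists_vals hv
  have e5 := ex5 hvF A
  have e8 := ex8 hvF A
  have eC := exC hvF A
  have e46 := ex46 hvF A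
  have hM := h.mm_pos
  simp only [List.mem_cons, List.not_mem_nil, or_false] at hm
  -- divisibility facts
  have f5 : (v : ℤ) ^ 5 - 1 = A.a5 * ((v : ℤ) - 1) := by rw [A.h5]; ring
  have f8 : (v : ℤ) ^ 8 - 1 = A.a8 * ((v : ℤ) ^ 4 - 1) := by rw [A.h8]; ring
  have f3 : (v : ℤ) ^ 3 - 1 = A.m3 * (A.d * ((v : ℤ) - 1)) := by
    have : (A.m3 : ℤ) * (A.d * ((v : ℤ) - 1)) = (A.d * A.m3) * ((v : ℤ) - 1) := by ring
    rw [this, A.h3]; ring
  have f4 : (v : ℤ) ^ 4 - 1 = A.m4 * (A.g * ((v : ℤ) ^ 2 - 1)) := by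
    have : (A.m4 : ℤ) * (A.g * ((v : ℤ) ^ 2 - 1)) = (A.g * A.m4) * ((v : ℤ) ^ 2 - 1) := by ring
    rw [this, A.h4]; ring
  have f6 : (v : ℤ) ^ 6 - 1 = A.a6 * (((v : ℤ) + 1) * (v ^ 3 - 1)) := by rw [A.h6]; ring
  have f12 : (v : ℤ) ^ 12 - 1 = A.a12 * (((v : ℤ) ^ 2 + 1) * (v ^ 6 - 1)) := by rw [A.h12]; ring
  rcases hm with rfl | rfl | rfl
  · -- od 8
    have g5 := cop_all hall (by norm_num) (k := 5) (by norm_num) f5
    have g3 := cop_all hall (by norm_num) (k := 3) (by norm_num) f3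
    have g4 := cop_all hall (by norm_num) (k := 4) (by norm_num) f4
    have g6 := cop_all hall (by norm_num) (k := 6) (by norm_num) f6
    have g12 := cop_all hall (by norm_num) (k := 12) (by norm_num) f12
    have hlt := quad h e5 ⟨1, orderOf_one⟩ eC e46 g5 (Nat.coprime_one_left _) (Nat.Coprime.mul_left g3 g12)
      (Nat.Coprime.mul_left g4 g6) (Nat.coprime_one_right _) (Nat.Coprime.mul_right A.c_5_3 A.c_5_12)
      (Nat.Coprime.mul_right A.c_5_4 A.c_5_6) (Nat.coprime_one_left _) (Nat.coprime_one_left _)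
      (Nat.Coprime.mul_left (Nat.Coprime.mul_right A.c_3_4 A.c_3_6) (Nat.Coprime.mul_right A.c_12_4 A.c_12_6))
    have h8 : Pn 8 v = A.a8 := by
      have : ((Pn 8 v : ℕ) : ℤ) = A.a8 := by rw [cast_Pn hv, A.h8]; rfl
      exact_mod_cast this
    rw [h8] at hdv
    have hpos : 0 < A.a8 := by
      have := A.h8
      have h9 : (0 : ℤ) < A.a8 := by rw [this]; positivity
      exact_mod_cast h9
    exact size h hlt (Nat.le_of_dvd hpos hdv) (A.num8 hv)
  · -- od 9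
    have g5 := cop_all hall (by norm_num) (k := 5) (by norm_num) f5
    have g8 := cop_all hall (by norm_num) (k := 8) (by norm_num) f8
    have g3 := cop_all hall (by norm_num) (k := 3) (by norm_num) f3
    have g4 := cop_all hall (by norm_num) (k := 4) (by norm_num) f4
    have g6 := cop_all hall (by norm_num) (k := 6) (by norm_num) f6
    have g12 := cop_all hall (by norm_num) (k := 12) (by norm_num) f12
    have hlt := quad h e5 e8 eC e46 g5 g8 (Nat.Coprime.mul_left g3 g12)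
      (Nat.Coprime.mul_left g4 g6) A.c_5_8 (Nat.Coprime.mul_right A.c_5_3 A.c_5_12)
      (Nat.Coprime.mul_right A.c_5_4 A.c_5_6) (Nat.Coprime.mul_right A.c_8_3 A.c_8_12)
      (Nat.Coprime.mul_right (A.c_8_4 hv) A.c_8_6)
      (Nat.Coprime.mul_left (Nat.Coprime.mul_right A.c_3_4 A.c_3_6) (Nat.Coprime.mul_right A.c_12_4 A.c_12_6))
    exact size h hlt (Nat.le_of_dvd (by show 0 < v ^ 6 + v ^ 3 + 1; positivity) hdv) (A.num9 hv)
  · -- od 12
    obtain ⟨x, hx⟩ := eC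
    obtain ⟨y, -, hy⟩ := H371.exists_orderOf_of_dvd (isOfFinOrder_of_finite x) (n := A.m3)
      (by rw [hx]; exact Dvd.intro _ rfl)
    have g5 := cop_all hall (by norm_num) (k := 5) (by norm_num) f5
    have g8 := cop_all hall (by norm_num) (k := 8) (by norm_num) f8
    have g3 := cop_all hall (by norm_num) (k := 3) (by norm_num) f3
    have g4 := cop_all hall (by norm_num) (k := 4) (by norm_num) f4
    have g6 := cop_all hall (by norm_num) (k := 6) (by norm_num) f6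
    have hlt := quad h e5 e8 ⟨y, hy⟩ e46 g5 g8 g3
      (Nat.Coprime.mul_left g4 g6) A.c_5_8 A.c_5_3
      (Nat.Coprime.mul_right A.c_5_4 A.c_5_6) A.c_8_3
      (Nat.Coprime.mul_right (A.c_8_4 hv) A.c_8_6) (Nat.Coprime.mul_right A.c_3_4 A.c_3_6)
    have h12 : Pn 12 v = A.a12 := by
      have : ((Pn 12 v : ℕ) : ℤ) = A.a12 := by rw [cast_Pn hv, A.h12]; rfl
      exact_mod_cast this
    rw [h12] at hdv
    have hpos : 0 < A.a12 := by
      have := A.h12
      have h9 : (0 : ℤ) < A.a12 := by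
        rw [this]
        exact a12_pos hv
      exact_mod_cast h9
    exact size h hlt (Nat.le_of_dvd hpos hdv) (A.num12 hv)

end Cfsg.Agent.H299.UF
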