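import Mathlib

/-!
# S3461, the row `E₆(v)`: arithmetic (helper299, task 2675)
-/

set_option autoImplicit false

namespace Cfsg.Agent.H299.UF

/-- the numbers `Φ₃/d, Φ₄/g, Φ₅, Φ₆, Φ₈, Φ₁₂, Φ₉` -/
structure Vals (v : ℕ) where
  d : ℕ
  g : ℕ
  m3 : ℕ
  m4 : ℕ
  a5 : ℕ
  a6 : ℕ
  a8 : ℕ
  a12 : ℕ
  hd : d = Nat.gcd 3 (v - 1)
  hg : g = Nat.gcd 2 (v - 1)
  h3 : (d : ℤ) * m3 = (v : ℤ) ^ 2 + v + 1
  h4 : (g : ℤ) * m4 = (v : ℤ) ^ 2 + 1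
  h5 : (a5 : ℤ) = (v : ℤ) ^ 4 + v ^ 3 + v ^ 2 + v + 1
  h6 : (a6 : ℤ) = (v : ℤ) ^ 2 - v + 1
  h8 : (a8 : ℤ) = (v : ℤ) ^ 4 + 1
  h12 : (a12 : ℤ) = (v : ℤ) ^ 4 - v ^ 2 + 1

theorem exists_vals {v : ℕ} (hv : 2 ≤ v) : Nonempty (Vals v) := by
  obtain ⟨a5, h5⟩ : ∃ n : ℕ, (n : ℤ) = (v : ℤ) ^ 4 + v ^ 3 + v ^ 2 + v + 1 :=
    ⟨v ^ 4 + v ^ 3 + v ^ 2 + v + 1, by push_cast; ring⟩
  obtain ⟨a8, h8⟩ : ∃ n : ℕ, (n : ℤ) = (v : ℤ) ^ 4 + 1 := ⟨v ^ 4 + 1, by push_cast; ring⟩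
  obtain ⟨a6, h6⟩ : ∃ n : ℕ, (n : ℤ) = (v : ℤ) ^ 2 - v + 1 := by
    refine ⟨((v : ℤ) ^ 2 - v + 1).toNat, Int.toNat_of_nonneg ?_⟩
    have : (2 : ℤ) ≤ v := by exact_mod_cast hv
    nlinarith
  obtain ⟨a12, h12⟩ : ∃ n : ℕ, (n : ℤ) = (v : ℤ) ^ 4 - v ^ 2 + 1 := by
    refine ⟨((v : ℤ) ^ 4 - v ^ 2 + 1).toNat, Int.toNat_of_nonneg ?_⟩
    have h1 : (2 : ℤ) ≤ v := by exact_mod_cast hv
    have h2 : (4 : ℤ) ≤ (v : ℤ) ^ 2 := by nlinarith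
    nlinarith
  have hd : Nat.gcd 3 (v - 1) ∣ v ^ 2 + v + 1 := by
    rcases (Nat.dvd_prime Nat.prime_three).1 (Nat.gcd_dvd_left 3 (v - 1)) with h1 | h1
    · rw [h1]; exact one_dvd _
    · rw [h1]
      have h2 : 3 ∣ v - 1 := by rw [← h1]; exact Nat.gcd_dvd_right _ _
      obtain ⟨k, hk⟩ := h2
      have e : v = 3 * k + 1 := by omega
      rw [e]
      exact ⟨3 * k ^ 2 + 3 * k + 1, by ring⟩
  have hg : Nat.gcd 2 (v - 1) ∣ v ^ 2 + 1 := by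
    rcases (Nat.dvd_prime Nat.prime_two).1 (Nat.gcd_dvd_left 2 (v - 1)) with h1 | h1
    · rw [h1]; exact one_dvd _
    · rw [h1]
      have h2 : 2 ∣ v - 1 := by rw [← h1]; exact Nat.gcd_dvd_right _ _
      obtain ⟨k, hk⟩ := h2
      have e : v = 2 * k + 1 := by omega
      rw [e]
      exact ⟨2 * k ^ 2 + 2 * k + 1, by ring⟩
  obtain ⟨m3, h3⟩ := hd
  obtain ⟨m4, h4⟩ := hg
  exact ⟨⟨_, _, m3, m4, a5, a6, a8, a12, rfl, rfl, by exact_mod_cast h3.symm, by exact_mod_cast h4.symm, h5, h6, h8, h12⟩⟩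

theorem cop_of_comb {a b : ℕ} {x y : ℤ} (h : x * a + y * b = 1) : Nat.Coprime a b := by
  rw [← Nat.isCoprime_iff_coprime]
  exact ⟨x, y, h⟩

/-- a combination equal to a prime that does not divide `b` -/
theorem cop_of_comb_prime {a b p : ℕ} (hp : p.Prime) {x y : ℤ} (h : x * a + y * b = p) (hb : ¬ p ∣ b) :
    Nat.Coprime a b := by
  have h1 : (Nat.gcd a b : ℤ) ∣ (p : ℤ) := by
    rw [← h]
    exact dvd_add (Dvd.dvd.mul_left (by exact_mod_cast Nat.gcd_dvd_left a b) _)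
      (Dvd.dvd.mul_left (by exact_mod_cast Nat.gcd_dvd_right a b) _)
  have h2 : Nat.gcd a b ∣ p := by exact_mod_cast h1
  rcases (Nat.dvd_prime hp).1 h2 with h3 | h3
  · exact h3
  · exfalso
    exact hb (h3 ▸ Nat.gcd_dvd_right a b)

namespace Vals

variable {v : ℕ} (hv : 2 ≤ v) (A : Vals v)

include hv

theorem m4_odd : ¬ 2 ∣ A.m4 := by
  intro h
  have h4 := A.h4
  have hg := A.hg
  rcases (Nat.dvd_prime Nat.prime_two).1 (Nat.gcd_dvd_left 2 (v - 1)) with h1 | h1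
  · -- `v` even
    have h2 : ¬ 2 ∣ v - 1 := by
      intro h2
      have := Nat.dvd_gcd (dvd_refl 2) h2
      rw [h1] at this
      omega
    rw [hg, h1] at h4
    obtain ⟨k, hk⟩ : ∃ k, v = 2 * k := ⟨v / 2, by omega⟩
    obtain ⟨j, hj⟩ := h
    have hk' : (v : ℤ) = 2 * k := by exact_mod_cast hk
    rw [hk', hj] at h4
    push_cast at h4
    have : (2 : ℤ) * j = 2 * (2 * k * k) + 1 := by linarith
    omega
  · have h2 : 2 ∣ v - 1 := by rw [← h1]; exact Nat.gcd_dvd_right _ _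
    rw [hg, h1] at h4
    obtain ⟨k, hk⟩ : ∃ k, v = 2 * k + 1 := ⟨(v - 1) / 2, by omega⟩
    obtain ⟨j, hj⟩ := h
    have hk' : (v : ℤ) = 2 * k + 1 := by exact_mod_cast hk
    rw [hk', hj] at h4
    push_cast at h4
    have : (4 : ℤ) * j = 4 * (k * k + k) + 2 := by linarith
    omega

omit hv in
theorem a6_odd : ¬ 2 ∣ A.a6 := by
  rintro ⟨j, hj⟩
  have h := A.h6
  rw [hj] at h
  push_cast at h
  obtain ⟨k, hk⟩ := Int.even_mul_succ_self ((v : ℤ) - 1)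
  have : (2 : ℤ) * j = 2 * k + 1 := by
    rw [h]
    linarith [hk]
  omega

omit hv in
theorem cop_m4_3 : ¬ 3 ∣ A.m4 := by
  rintro ⟨j, hj⟩
  have h := A.h4
  rw [hj] at h
  push_cast at h
  have h1 : ((v : ℤ) ^ 2 + 1) % 3 = 0 := by
    rw [← h]
    have : (A.g : ℤ) * (3 * j) = 3 * (A.g * j) := by ring
    rw [this]
    exact Int.mul_emod_right _ _
  have h2 : (v : ℤ) % 3 = 0 ∨ (v : ℤ) % 3 = 1 ∨ (v : ℤ) % 3 = 2 := by omega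
  rcases h2 with h2 | h2 | h2 <;> simp [Int.add_emod, pow_succ, Int.mul_emod, h2] at h1

omit hv in
theorem c_5_8 : Nat.Coprime A.a5 A.a8 := cop_of_comb (x := (-1) * (v : ℤ) ^ 1 + 1 * (v : ℤ) ^ 2 + (-1) * (v : ℤ) ^ 3)
    (y := 1 + 1 * (v : ℤ) ^ 1 + 1 * (v : ℤ) ^ 3) (by rw [A.h5, A.h8]; ring)

omit hv in
theorem c_5_12 : Nat.Coprime A.a5 A.a12 := cop_of_comb
    (x := 2 + (-1) * (v : ℤ) ^ 1 + (-2) * (v : ℤ) ^ 2 + 2 * (v : ℤ) ^ 3)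
    (y := (-1) + (-1) * (v : ℤ) ^ 1 + (-2) * (v : ℤ) ^ 3) (by rw [A.h5, A.h12]; ring)

omit hv in
theorem c_8_12 : Nat.Coprime A.a8 A.a12 := cop_of_comb (x := 1 + (-1) * (v : ℤ) ^ 2) (y := 1 * (v : ℤ) ^ 2)
    (by rw [A.h8, A.h12]; ring)

omit hv in
theorem c_5_3 : Nat.Coprime A.a5 A.m3 := cop_of_comb (x := -(v : ℤ)) (y := (1 + (v : ℤ) ^ 3) * A.d) (by
  have : -(v : ℤ) * A.a5 + (1 + (v : ℤ) ^ 3) * A.d * A.m3 = -(v : ℤ) * A.a5 + (1 + (v : ℤ) ^ 3) * (A.d * A.m3) := by ring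
  rw [this, A.h3, A.h5]; ring)

omit hv in
theorem c_5_6 : Nat.Coprime A.a5 A.a6 := cop_of_comb (x := -(v : ℤ)) (y := 1 + v * ((v : ℤ) ^ 2 + 2 * v + 2))
  (by rw [A.h5, A.h6]; ring)

omit hv in
theorem c_5_4 : Nat.Coprime A.a5 A.m4 := cop_of_comb (x := 1) (y := -((v : ℤ) ^ 2 + v) * A.g) (by
  have : 1 * (A.a5 : ℤ) + -((v : ℤ) ^ 2 + v) * A.g * A.m4 = A.a5 - ((v : ℤ) ^ 2 + v) * (A.g * A.m4) := by ring
  rw [this, A.h4, A.h5]; ring)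

omit hv in
theorem c_8_3 : Nat.Coprime A.a8 A.m3 := cop_of_comb (x := -(v : ℤ)) (y := (1 + (v : ℤ) ^ 3 - v ^ 2) * A.d) (by
  have : -(v : ℤ) * A.a8 + (1 + (v : ℤ) ^ 3 - v ^ 2) * A.d * A.m3 =
    -(v : ℤ) * A.a8 + (1 + (v : ℤ) ^ 3 - v ^ 2) * (A.d * A.m3) := by ring
  rw [this, A.h3, A.h8]; ring)

omit hv in
theorem c_8_6 : Nat.Coprime A.a8 A.a6 := cop_of_comb (x := (v : ℤ)) (y := 1 - (v : ℤ) ^ 3 - v ^ 2)
  (by rw [A.h8, A.h6]; ring)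

theorem c_8_4 : Nat.Coprime A.a8 A.m4 := cop_of_comb_prime Nat.prime_two (x := 1) (y := -((v : ℤ) ^ 2 - 1) * A.g) (by
  have : 1 * (A.a8 : ℤ) + -((v : ℤ) ^ 2 - 1) * A.g * A.m4 = A.a8 - ((v : ℤ) ^ 2 - 1) * (A.g * A.m4) := by ring
  rw [this, A.h4, A.h8]; push_cast; ring) (A.m4_odd hv)

omit hv in
theorem c_3_4 : Nat.Coprime A.m3 A.m4 := cop_of_comb (x := -(v : ℤ) * A.d) (y := (1 + (v : ℤ)) * A.g) (by
  have : -(v : ℤ) * A.d * A.m3 + (1 + (v : ℤ)) * A.g * A.m4 = -(v : ℤ) * (A.d * A.m3) + (1 + (v : ℤ)) * (A.g * A.m4) := by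
    ring
  rw [this, A.h3, A.h4]; ring)

omit hv in
theorem c_3_6 : Nat.Coprime A.m3 A.a6 := by
  -- `Φ₃ - Φ₆ = 2 v`, `(v - 1) (v) + 1 = Φ₆`
  refine cop_of_comb_prime Nat.prime_two (x := -((v : ℤ) - 1) * A.d) (y := ((v : ℤ) - 1) + 2) ?_ A.a6_odd
  have : -((v : ℤ) - 1) * A.d * A.m3 + (((v : ℤ) - 1) + 2) * A.a6 =
    -((v : ℤ) - 1) * (A.d * A.m3) + (((v : ℤ) - 1) + 2) * A.a6 := by ring
  rw [this, A.h3, A.h6]; push_cast; ring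

omit hv in
theorem c_12_6 : Nat.Coprime A.a12 A.a6 := cop_of_comb_prime Nat.prime_two (x := (v : ℤ))
  (y := 2 - v * ((v : ℤ) ^ 2 + v - 1)) (by rw [A.h12, A.h6]; push_cast; ring) A.a6_odd

omit hv in
theorem c_12_4 : Nat.Coprime A.a12 A.m4 := cop_of_comb_prime Nat.prime_three (x := 1) (y := -((v : ℤ) ^ 2 - 2) * A.g) (by
  have : 1 * (A.a12 : ℤ) + -((v : ℤ) ^ 2 - 2) * A.g * A.m4 = A.a12 - ((v : ℤ) ^ 2 - 2) * (A.g * A.m4) := by ring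
  rw [this, A.h4, A.h12]; push_cast; ring) A.cop_m4_3

theorem small_cases : v = 2 ∧ A.d = 1 ∧ A.g = 1 ∨ v = 3 ∧ A.d = 1 ∧ A.g = 2 ∨ 4 ≤ v ∧ A.d ≤ 3 ∧ A.g ≤ 2 := by
  have hd := A.hd
  have hg := A.hg
  rcases (by omega : v = 2 ∨ v = 3 ∨ 4 ≤ v) with h | h | h
  · left; subst h; exact ⟨rfl, by rw [hd]; decide, by rw [hg]; decide⟩
  · right; left; subst h; exact ⟨rfl, by rw [hd]; decide, by rw [hg]; decide⟩
  · right; right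
    exact ⟨h, by rw [hd]; exact Nat.gcd_le_left _ (by norm_num), by rw [hg]; exact Nat.gcd_le_left _ (by norm_num)⟩

omit hv in
theorem num (P Φ : ℕ) (hR : 1152 * Φ ^ 5 ≤ (A.d * A.g * P) ^ 2) (hd : A.d ≤ 3) (hg : A.g ≤ 2) :
    32 * Φ ^ 5 ≤ P ^ 2 := by
  have h2 : A.d * A.g ≤ 6 := Nat.mul_le_mul hd hg
  have h3 : (A.d * A.g * P) ^ 2 ≤ 36 * P ^ 2 := by
    have := Nat.pow_le_pow_left (Nat.mul_le_mul_right P h2) 2
    calc (A.d * A.g * P) ^ 2 ≤ (6 * P) ^ 2 := this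
      _ = 36 * P ^ 2 := by ring
  omega

/-- bounds for `v ≥ 4` -/
theorem bounds (h4 : 4 ≤ v) : v ^ 4 ≤ A.a5 ∧ v ^ 4 ≤ A.a8 ∧ A.a8 ≤ 2 * v ^ 4 ∧ A.a12 ≤ v ^ 4 ∧
    v ^ 4 ≤ (A.d * A.m3) * A.a6 ∧ v ^ 6 ≤ A.a12 * (A.g * A.m4) ∧ v ^ 2 ≤ A.g * A.m4 ∧
    32 * (v ^ 6 + v ^ 3 + 1) ≤ 33 * v ^ 6 := by
  have hz : (4 : ℤ) ≤ v := by exact_mod_cast h4
  have hv2 : (16 : ℤ) ≤ (v : ℤ) ^ 2 := by nlinarith
  have hv3 : (64 : ℤ) ≤ (v : ℤ) ^ 3 := by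
    have : (v : ℤ) ^ 3 = v ^ 2 * v := by ring
    nlinarith
  have hv4 : (256 : ℤ) ≤ (v : ℤ) ^ 4 := by
    have : (v : ℤ) ^ 4 = v ^ 2 * v ^ 2 := by ring
    nlinarith
  refine ⟨?_, ?_, ?_, ?_, ?_, ?_, ?_, ?_⟩ <;> zify
  · rw [A.h5]; linarith
  · rw [A.h8]; linarith
  · rw [A.h8]; linarith
  · rw [A.h12]; linarith
  · rw [A.h3, A.h6]; nlinarith
  · rw [A.h4, A.h12]
    have : ((v : ℤ) ^ 4 - v ^ 2 + 1) * (v ^ 2 + 1) = v ^ 6 + 1 := by ring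
    rw [this]; linarith
  · rw [A.h4]; linarith
  · have : (v : ℤ) ^ 6 = v ^ 3 * v ^ 3 := by ring
    nlinarith

theorem num9 : 32 * (v ^ 6 + v ^ 3 + 1) ^ 5 ≤ (A.a5 * A.a8 * (A.m3 * A.a12) * (A.m4 * A.a6)) ^ 2 := by
  have h3 := A.h3
  have h4 := A.h4
  have h5 := A.h5
  have h6 := A.h6
  have h8 := A.h8
  have h12 := A.h12
  rcases A.small_cases hv with ⟨e, hd, hg⟩ | ⟨e, hd, hg⟩ | ⟨hv4, hd, hg⟩
  · have e' : (v : ℤ) = 2 := by exact_mod_cast e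
    rw [e', hd] at h3
    rw [e', hg] at h4
    rw [e'] at h5 h6 h8 h12
    norm_num at h3 h4 h5 h6 h8 h12
    have k3 : A.m3 = 7 := by exact_mod_cast h3
    have k4 : A.m4 = 5 := by exact_mod_cast h4
    have k5 : A.a5 = 31 := by exact_mod_cast h5
    have k6 : A.a6 = 3 := by exact_mod_cast h6
    have k8 : A.a8 = 17 := by exact_mod_cast h8
    have k12 : A.a12 = 13 := by exact_mod_cast h12
    rw [k3, k4, k5, k6, k8, k12]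
    rw [show v ^ 6 + v ^ 3 + 1 = 73 by rw [e]; norm_num]
    norm_num
  · have e' : (v : ℤ) = 3 := by exact_mod_cast e
    rw [e', hd] at h3
    rw [e', hg] at h4
    rw [e'] at h5 h6 h8 h12
    norm_num at h3 h4 h5 h6 h8 h12
    have k3 : A.m3 = 13 := by exact_mod_cast h3
    have k4 : A.m4 = 5 := by omega
    have k5 : A.a5 = 121 := by exact_mod_cast h5
    have k6 : A.a6 = 7 := by exact_mod_cast h6
    have k8 : A.a8 = 82 := by exact_mod_cast h8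
    have k12 : A.a12 = 73 := by exact_mod_cast h12
    rw [k3, k4, k5, k6, k8, k12]
    rw [show v ^ 6 + v ^ 3 + 1 = 757 by rw [e]; norm_num]
    norm_num
  · obtain ⟨b1, b2, -, -, b5, b6, -, b8⟩ := A.bounds hv hv4
    refine A.num _ _ ?_ hd hg
    have q1 : A.d * A.g * (A.a5 * A.a8 * (A.m3 * A.a12) * (A.m4 * A.a6)) =
        (A.a5 * A.a8) * (((A.d * A.m3) * A.a6) * (A.a12 * (A.g * A.m4))) := by ring
    rw [q1]
    have q2 : v ^ 18 ≤ (A.a5 * A.a8) * (((A.d * A.m3) * A.a6) * (A.a12 * (A.g * A.m4))) := by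
      calc v ^ 18 = (v ^ 4 * v ^ 4) * (v ^ 4 * v ^ 6) := by ring
        _ ≤ _ := Nat.mul_le_mul (Nat.mul_le_mul b1 b2) (Nat.mul_le_mul b5 b6)
    have q3 : v ^ 36 ≤ ((A.a5 * A.a8) * (((A.d * A.m3) * A.a6) * (A.a12 * (A.g * A.m4)))) ^ 2 := by
      calc v ^ 36 = (v ^ 18) ^ 2 := by ring
        _ ≤ _ := Nat.pow_le_pow_left q2 2
    refine le_trans ?_ q3
    have q4 := Nat.pow_le_pow_left b8 5
    have q5 : 4 ^ 6 ≤ v ^ 6 := Nat.pow_le_pow_left hv4 6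
    have q6 : v ^ 36 = v ^ 30 * v ^ 6 := by ring
    have q7 : v ^ 30 * 4 ^ 6 ≤ v ^ 30 * v ^ 6 := Nat.mul_le_mul_left _ q5
    rw [q6]
    have q8 : (33 * v ^ 6) ^ 5 = 39135393 * v ^ 30 := by ring
    have q9 : (32 * (v ^ 6 + v ^ 3 + 1)) ^ 5 = 33554432 * (v ^ 6 + v ^ 3 + 1) ^ 5 := by ring
    rw [q8, q9] at q4
    norm_num at q7
    generalize (v ^ 6 + v ^ 3 + 1) ^ 5 = X at *
    generalize v ^ 30 * v ^ 6 = Z at *
    generalize v ^ 30 = Y at *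
    omega

theorem num8 : 32 * A.a8 ^ 5 ≤ (A.a5 * 1 * (A.m3 * A.a12) * (A.m4 * A.a6)) ^ 2 := by
  have h3 := A.h3
  have h4 := A.h4
  have h5 := A.h5
  have h6 := A.h6
  have h8 := A.h8
  have h12 := A.h12
  rcases A.small_cases hv with ⟨e, hd, hg⟩ | ⟨e, hd, hg⟩ | ⟨hv4, hd, hg⟩
  · have e' : (v : ℤ) = 2 := by exact_mod_cast e
    rw [e', hd] at h3
    rw [e', hg] at h4
    rw [e'] at h5 h6 h8 h12
    norm_num at h3 h4 h5 h6 h8 h12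
    have k3 : A.m3 = 7 := by exact_mod_cast h3
    have k4 : A.m4 = 5 := by exact_mod_cast h4
    have k5 : A.a5 = 31 := by exact_mod_cast h5
    have k6 : A.a6 = 3 := by exact_mod_cast h6
    have k8 : A.a8 = 17 := by exact_mod_cast h8
    have k12 : A.a12 = 13 := by exact_mod_cast h12
    rw [k3, k4, k5, k6, k8, k12]
    norm_num
  · have e' : (v : ℤ) = 3 := by exact_mod_cast e
    rw [e', hd] at h3
    rw [e', hg] at h4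
    rw [e'] at h5 h6 h8 h12
    norm_num at h3 h4 h5 h6 h8 h12
    have k3 : A.m3 = 13 := by exact_mod_cast h3
    have k4 : A.m4 = 5 := by omega
    have k5 : A.a5 = 121 := by exact_mod_cast h5
    have k6 : A.a6 = 7 := by exact_mod_cast h6
    have k8 : A.a8 = 82 := by exact_mod_cast h8
    have k12 : A.a12 = 73 := by exact_mod_cast h12
    rw [k3, k4, k5, k6, k8, k12]
    norm_num
  · obtain ⟨b1, -, b3, -, b5, b6, -, -⟩ := A.bounds hv hv4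
    refine A.num _ _ ?_ hd hg
    have q1 : A.d * A.g * (A.a5 * 1 * (A.m3 * A.a12) * (A.m4 * A.a6)) =
        A.a5 * (((A.d * A.m3) * A.a6) * (A.a12 * (A.g * A.m4))) := by ring
    rw [q1]
    have q2 : v ^ 14 ≤ A.a5 * (((A.d * A.m3) * A.a6) * (A.a12 * (A.g * A.m4))) := by
      calc v ^ 14 = v ^ 4 * (v ^ 4 * v ^ 6) := by ring
        _ ≤ _ := Nat.mul_le_mul b1 (Nat.mul_le_mul b5 b6)
    have q3 : v ^ 28 ≤ (A.a5 * (((A.d * A.m3) * A.a6) * (A.a12 * (A.g * A.m4)))) ^ 2 := by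
      calc v ^ 28 = (v ^ 14) ^ 2 := by ring
        _ ≤ _ := Nat.pow_le_pow_left q2 2
    refine le_trans ?_ q3
    have q4 := Nat.pow_le_pow_left b3 5
    have q5 : 4 ^ 8 ≤ v ^ 8 := Nat.pow_le_pow_left hv4 8
    have q6 : v ^ 28 = v ^ 20 * v ^ 8 := by ring
    have q7 : v ^ 20 * 4 ^ 8 ≤ v ^ 20 * v ^ 8 := Nat.mul_le_mul_left _ q5
    rw [q6]
    have q8 : (2 * v ^ 4) ^ 5 = 32 * v ^ 20 := by ring
    rw [q8] at q4
    norm_num at q7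
    generalize A.a8 ^ 5 = X at *
    generalize v ^ 20 * v ^ 8 = Z at *
    generalize v ^ 20 = Y at *
    omega

theorem num12 : 32 * A.a12 ^ 5 ≤ (A.a5 * A.a8 * A.m3 * (A.m4 * A.a6)) ^ 2 := by
  have h3 := A.h3
  have h4 := A.h4
  have h5 := A.h5
  have h6 := A.h6
  have h8 := A.h8
  have h12 := A.h12
  rcases A.small_cases hv with ⟨e, hd, hg⟩ | ⟨e, hd, hg⟩ | ⟨hv4, hd, hg⟩
  · have e' : (v : ℤ) = 2 := by exact_mod_cast e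
    rw [e', hd] at h3
    rw [e', hg] at h4
    rw [e'] at h5 h6 h8 h12
    norm_num at h3 h4 h5 h6 h8 h12
    have k3 : A.m3 = 7 := by exact_mod_cast h3
    have k4 : A.m4 = 5 := by exact_mod_cast h4
    have k5 : A.a5 = 31 := by exact_mod_cast h5
    have k6 : A.a6 = 3 := by exact_mod_cast h6
    have k8 : A.a8 = 17 := by exact_mod_cast h8
    have k12 : A.a12 = 13 := by exact_mod_cast h12
    rw [k3, k4, k5, k6, k8, k12]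
    norm_num
  · have e' : (v : ℤ) = 3 := by exact_mod_cast e
    rw [e', hd] at h3
    rw [e', hg] at h4
    rw [e'] at h5 h6 h8 h12
    norm_num at h3 h4 h5 h6 h8 h12
    have k3 : A.m3 = 13 := by exact_mod_cast h3
    have k4 : A.m4 = 5 := by omega
    have k5 : A.a5 = 121 := by exact_mod_cast h5
    have k6 : A.a6 = 7 := by exact_mod_cast h6
    have k8 : A.a8 = 82 := by exact_mod_cast h8
    have k12 : A.a12 = 73 := by exact_mod_cast h12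
    rw [k3, k4, k5, k6, k8, k12]
    norm_num
  · obtain ⟨b1, b2, -, b4, b5, -, b7, -⟩ := A.bounds hv hv4
    refine A.num _ _ ?_ hd hg
    have q1 : A.d * A.g * (A.a5 * A.a8 * A.m3 * (A.m4 * A.a6)) =
        (A.a5 * A.a8) * (((A.d * A.m3) * A.a6) * (A.g * A.m4)) := by ring
    rw [q1]
    have q2 : v ^ 14 ≤ (A.a5 * A.a8) * (((A.d * A.m3) * A.a6) * (A.g * A.m4)) := by
      calc v ^ 14 = (v ^ 4 * v ^ 4) * (v ^ 4 * v ^ 2) := by ring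
        _ ≤ _ := Nat.mul_le_mul (Nat.mul_le_mul b1 b2) (Nat.mul_le_mul b5 b7)
    have q3 : v ^ 28 ≤ ((A.a5 * A.a8) * (((A.d * A.m3) * A.a6) * (A.g * A.m4))) ^ 2 := by
      calc v ^ 28 = (v ^ 14) ^ 2 := by ring
        _ ≤ _ := Nat.pow_le_pow_left q2 2
    refine le_trans ?_ q3
    have q4 := Nat.pow_le_pow_left b4 5
    have q5 : 4 ^ 8 ≤ v ^ 8 := Nat.pow_le_pow_left hv4 8
    have q6 : v ^ 28 = v ^ 20 * v ^ 8 := by ring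
    have q7 : v ^ 20 * 4 ^ 8 ≤ v ^ 20 * v ^ 8 := Nat.mul_le_mul_left _ q5
    rw [q6]
    have q8 : (v ^ 4) ^ 5 = v ^ 20 := by ring
    rw [q8] at q4
    norm_num at q7
    generalize A.a12 ^ 5 = X at *
    generalize v ^ 20 * v ^ 8 = Z at *
    generalize v ^ 20 = Y at *
    omega

end Vals

end Cfsg.Agent.H299.UF
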